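import Cfsg.Agent.Comp.G25K.TopC0
import Cfsg.Agent.Comp.G25K.TopC1
import Cfsg.Agent.Comp.G25K.TopC2

set_option autoImplicit false
set_option maxRecDepth 100000

namespace Cfsg.Agent.Comp.G25K.Top
open Cfsg.Agent.Comp

theorem index.{u} : IndexLe.{u} 20 G25.R W 19530 :=
  indexLe_of_cert P HT (by decide +kernel)
    (show P.RowsOK 16 19552 from (Par.RowsOK.join (Par.RowsOK.join (Par.RowsOK.join r0 (Par.RowsOK.join r1 r2)) (Par.RowsOK.join r3 (Par.RowsOK.join r4 r5))) (Par.RowsOK.join (Par.RowsOK.join r6 (Par.RowsOK.join r7 r8)) (Par.RowsOK.join r9 (Par.RowsOK.join r10 r11)))))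

end Cfsg.Agent.Comp.G25K.Top
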