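import Cfsg.Agent.Comp.G25K.Sat
import Cfsg.Agent.Comp.G25K.Top
import Cfsg.Agent.Comp.DCount

set_option autoImplicit false
set_option maxRecDepth 100000

namespace Cfsg.Agent.Comp.G25K
open Cfsg.Agent.Comp

open _root_.Cfsg.Agent.Comp.G25 (G s pres card)

def W0 : List (List Nat) := [[10],
[12],
[14],
[16],
[18],
[0],
[2, 0, 3],
[2, 2, 0, 3, 3]]

noncomputable def phi : G →* Equiv.Perm ℕ := (pres.rep ok sat).choose

theorem rep : Rep s 20 19530 T phi := (pres.rep ok sat).choose_spec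

theorem trans : ∀ i < 19530, ∃ g, phi g 0 = i :=
  rep.trans (sch := [2, 6, 8, 4, 12, 6, 0, 16, 8, 4, 6, 14, 12, 0, 16, 2, 6, 18, 0]) (by decide +kernel)

theorem stab : (genW s W0).index = 19530 ∧ ∀ g, g ∈ genW s W0 ↔ phi g 0 = 0 :=
  rep.stab_eq (by decide +kernel) (by norm_num) trans (by decide +kernel) (Top.index _ s pres.sat)


end Cfsg.Agent.Comp.G25K
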