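import Cfsg.Agent.Comp.G25K.Nets

set_option autoImplicit false
set_option maxRecDepth 100000

namespace Cfsg.Agent.Comp.G25K
open Cfsg.Agent.Comp

def sat_0L : List (List Nat) :=
  [[0, 1],
   [1, 0],
   [2, 3],
   [3, 2],
   [4, 5],
   [5, 4],
   [6, 7],
   [7, 6],
   [8, 9],
   [9, 8],
   [10, 11],
   [11, 10],
   [12, 13],
   [13, 12],
   [14, 15],
   [15, 14],
   [16, 17],
   [17, 16],
   [18, 19],
   [19, 18],
   [0, 0, 0, 0, 0, 0, 0, 0],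
   [2, 2, 2, 2, 2],
   [0, 2, 0, 2, 0, 2, 0, 2],
   [1, 1, 3, 0, 0, 2],
   [1, 3, 0, 2, 1, 3, 0, 2, 1, 3, 0, 2],
   [10, 5],
   [12, 1, 5, 0],
   [14, 3, 5, 2],
   [16, 2, 5, 3]]

def sat_1L : List (List Nat) :=
  [[18, 13, 11, 12, 10],
   [10, 10, 10, 10, 10],
   [18, 18, 18, 18, 18],
   [11, 19, 10, 18],
   [13, 19, 12, 18],
   [15, 19, 14, 18],
   [17, 19, 16, 18],
   [11, 15, 10, 14, 18, 18],
   [11, 17, 10, 16, 19, 19],
   [13, 15, 12, 14, 18],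
   [13, 17, 12, 16],
   [15, 17, 14, 16, 18],
   [1, 12, 0, 10, 10],
   [1, 14, 0, 17, 11, 14, 14],
   [1, 16, 0, 17, 11, 17, 14, 12, 11],
   [1, 18, 0, 19, 19],
   [3, 12, 2, 16, 10, 16, 15, 13]]

def sat_2L : List (List Nat) :=
  [[3, 14, 2, 14, 14, 17, 11, 11],
   [3, 18, 2, 19],
   [8, 7, 11, 7, 2, 1, 3, 11, 7, 1, 11, 0, 11, 1, 10, 0, 2, 2],
   [8, 8],
   [9, 10, 8, 10, 3, 15, 3],
   [9, 14, 8, 0, 16, 10, 13, 1, 3, 3],
   [9, 16, 8, 17, 14, 3, 3],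
   [9, 18, 8, 16, 11, 14, 11],
   [8, 0, 0, 8, 16, 19, 11, 1, 2, 1, 3, 3, 1],
   [9, 2, 8, 16, 16, 14, 11]]

def sat_3L : List (List Nat) :=
  [[8, 0, 2, 2, 0, 3, 0, 8, 16, 19, 11, 1, 1],
   [8, 12, 8, 13, 8, 12, 17, 0, 14, 0, 0, 0],
   [6, 9, 3, 12, 1, 9, 1, 9, 1, 18, 16, 10, 2, 0, 3, 3, 1],
   [6, 6, 1, 1, 1, 1],
   [3, 7, 2, 6],
   [7, 0, 6, 1, 1, 1],
   [6, 18, 6, 18, 6, 18, 6, 18, 6, 18],
   [6, 18, 6, 19, 6, 18, 1, 1]]

theorem sat_0_0 : SatP 19530 0 15 T sat_0L :=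
  satP_of_relsP ok (by norm_num) (by norm_num) (by norm_num) (show relsP (nat_lit 19530) (nat_lit 15) (nat_lit 0) (nat_lit 15) T sat_0L = true by decide +kernel)

theorem sat_1_0 : SatP 19530 0 15 T sat_1L :=
  satP_of_relsP ok (by norm_num) (by norm_num) (by norm_num) (show relsP (nat_lit 19530) (nat_lit 15) (nat_lit 0) (nat_lit 15) T sat_1L = true by decide +kernel)

theorem sat_2_0 : SatP 19530 0 15 T sat_2L :=
  satP_of_relsP ok (by norm_num) (by norm_num) (by norm_num) (show relsP (nat_lit 19530) (nat_lit 15) (nat_lit 0) (nat_lit 15) T sat_2L = true by decide +kernel)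

theorem sat_3_0 : SatP 19530 0 15 T sat_3L :=
  satP_of_relsP ok (by norm_num) (by norm_num) (by norm_num) (show relsP (nat_lit 19530) (nat_lit 15) (nat_lit 0) (nat_lit 15) T sat_3L = true by decide +kernel)

theorem sat_0 : Sat (sig T) sat_0L := SatP.sat sat_0_0 ok (by norm_num)

theorem sat_1 : Sat (sig T) sat_1L := SatP.sat sat_1_0 ok (by norm_num)

theorem sat_2 : Sat (sig T) sat_2L := SatP.sat sat_2_0 ok (by norm_num)

theorem sat_3 : Sat (sig T) sat_3L := SatP.sat sat_3_0 ok (by norm_num)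

theorem sat : Sat (sig T) G25.R :=
  (show (sat_0L ++ (sat_1L ++ (sat_2L ++ sat_3L))) = G25.R by decide +kernel) ▸ (Sat.append sat_0 (Sat.append sat_1 (Sat.append sat_2 sat_3)))


end Cfsg.Agent.Comp.G25K
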