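import Cfsg.Agent.Comp.TC
import Cfsg.Agent.Comp.G25.Pres
import Cfsg.Agent.Comp.G25K.TopT0

set_option autoImplicit false
set_option maxRecDepth 100000

namespace Cfsg.Agent.Comp.G25K.Top
open Cfsg.Agent.Comp

noncomputable def T : Tr := (Tr.node (nat_lit 639) (Tr.node (nat_lit 319) (Tr.node (nat_lit 127) (Tr.node (nat_lit 63) t0 t1) (Tr.node (nat_lit 191) t2 (Tr.node (nat_lit 255) t3 t4))) (Tr.node (nat_lit 447) (Tr.node (nat_lit 383) t5 t6) (Tr.node (nat_lit 511) t7 (Tr.node (nat_lit 575) t8 t9)))) (Tr.node (nat_lit 959) (Tr.node (nat_lit 767) (Tr.node (nat_lit 703) t10 t11) (Tr.node (nat_lit 831) t12 (Tr.node (nat_lit 895) t13 t14))) (Tr.node (nat_lit 1087) (Tr.node (nat_lit 1023) t15 t16) (Tr.node (nat_lit 1151) t17 (Tr.node (nat_lit 1215) t18 t19)))))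

def RT : List (List (List Nat)) := [
  [[nat_lit 4, nat_lit 0, nat_lit 13],
   [nat_lit 5, nat_lit 0, nat_lit 12],
   [nat_lit 13, nat_lit 0, nat_lit 11, nat_lit 11],
   [nat_lit 12, nat_lit 0, nat_lit 10, nat_lit 10],
   [nat_lit 18, nat_lit 0, nat_lit 19, nat_lit 19],
   [nat_lit 19, nat_lit 0, nat_lit 18, nat_lit 18],
   [nat_lit 3, nat_lit 0, nat_lit 0, nat_lit 2, nat_lit 1],
   [nat_lit 14, nat_lit 0, nat_lit 17, nat_lit 11, nat_lit 14, nat_lit 14],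
   [nat_lit 15, nat_lit 0, nat_lit 15, nat_lit 15, nat_lit 10, nat_lit 16],
   [nat_lit 16, nat_lit 0, nat_lit 17, nat_lit 11, nat_lit 17, nat_lit 14, nat_lit 12, nat_lit 11],
   [nat_lit 17, nat_lit 0, nat_lit 10, nat_lit 13, nat_lit 15, nat_lit 16, nat_lit 10, nat_lit 16],
   [nat_lit 21],
   [nat_lit 6, nat_lit 0, nat_lit 0, nat_lit 0, nat_lit 7],
   [nat_lit 1, nat_lit 3, nat_lit 0, nat_lit 0, nat_lit 2],
   [nat_lit 1, nat_lit 2, nat_lit 0, nat_lit 0, nat_lit 3],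
   [nat_lit 2, nat_lit 0, nat_lit 0, nat_lit 3, nat_lit 1],
   [nat_lit 1, nat_lit 1, nat_lit 7, nat_lit 0, nat_lit 6],
   [nat_lit 1, nat_lit 1, nat_lit 6, nat_lit 6, nat_lit 1],
   [nat_lit 7, nat_lit 0, nat_lit 6, nat_lit 1, nat_lit 1],
   [nat_lit 1, nat_lit 6, nat_lit 6, nat_lit 1, nat_lit 1],
   [nat_lit 1, nat_lit 1, nat_lit 1, nat_lit 6, nat_lit 6],
   [nat_lit 1, nat_lit 1, nat_lit 1, nat_lit 1, nat_lit 1, nat_lit 1, nat_lit 1],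
   [nat_lit 3, nat_lit 3, nat_lit 1, nat_lit 8, nat_lit 0, nat_lit 0, nat_lit 8, nat_lit 16, nat_lit 19, nat_lit 11, nat_lit 1, nat_lit 2],
   [nat_lit 3, nat_lit 21, nat_lit 2],
   [nat_lit 3, nat_lit 1, nat_lit 3, nat_lit 1, nat_lit 3, nat_lit 1, nat_lit 3],
   [nat_lit 3, nat_lit 3, nat_lit 21, nat_lit 2, nat_lit 2],
   [nat_lit 6, nat_lit 6, nat_lit 1, nat_lit 1, nat_lit 1],
   [nat_lit 9, nat_lit 15, nat_lit 8, nat_lit 2, nat_lit 2, nat_lit 0, nat_lit 12, nat_lit 11, nat_lit 17],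
   [nat_lit 1, nat_lit 8, nat_lit 0, nat_lit 2, nat_lit 2, nat_lit 0, nat_lit 3, nat_lit 0, nat_lit 8, nat_lit 16, nat_lit 19, nat_lit 11],
   [nat_lit 1, nat_lit 6, nat_lit 18, nat_lit 6, nat_lit 19, nat_lit 6, nat_lit 18],
   [nat_lit 1, nat_lit 7, nat_lit 0, nat_lit 6, nat_lit 1],
   [nat_lit 1, nat_lit 9, nat_lit 0, nat_lit 2, nat_lit 2, nat_lit 0, nat_lit 3, nat_lit 0, nat_lit 10, nat_lit 18, nat_lit 17, nat_lit 9],
   [nat_lit 9, nat_lit 0, nat_lit 2, nat_lit 2, nat_lit 0, nat_lit 3, nat_lit 0, nat_lit 10, nat_lit 18, nat_lit 17, nat_lit 9, nat_lit 1],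
   [nat_lit 8, nat_lit 0, nat_lit 2, nat_lit 2, nat_lit 0, nat_lit 3, nat_lit 0, nat_lit 8, nat_lit 16, nat_lit 19, nat_lit 11, nat_lit 1],
   [nat_lit 3, nat_lit 0, nat_lit 2, nat_lit 1, nat_lit 3, nat_lit 0, nat_lit 2, nat_lit 1, nat_lit 3, nat_lit 0, nat_lit 2],
   [nat_lit 16, nat_lit 13, nat_lit 9, nat_lit 12, nat_lit 9, nat_lit 13, nat_lit 9, nat_lit 1, nat_lit 1, nat_lit 1, nat_lit 15],
   [nat_lit 15, nat_lit 1, nat_lit 16, nat_lit 13, nat_lit 9, nat_lit 12, nat_lit 9, nat_lit 13, nat_lit 9, nat_lit 1, nat_lit 1],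
   [nat_lit 3, nat_lit 3, nat_lit 1, nat_lit 9, nat_lit 0, nat_lit 0, nat_lit 10, nat_lit 18, nat_lit 17, nat_lit 9, nat_lit 1, nat_lit 2],
   [nat_lit 2, nat_lit 1, nat_lit 3, nat_lit 3, nat_lit 1, nat_lit 9, nat_lit 0, nat_lit 0, nat_lit 10, nat_lit 18, nat_lit 17, nat_lit 9],
   [nat_lit 3, nat_lit 3, nat_lit 9, nat_lit 14, nat_lit 8, nat_lit 0, nat_lit 16, nat_lit 10, nat_lit 13],
   [nat_lit 1, nat_lit 1, nat_lit 15, nat_lit 1, nat_lit 16, nat_lit 13, nat_lit 9, nat_lit 12, nat_lit 9, nat_lit 13, nat_lit 9],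
   [nat_lit 6, nat_lit 9, nat_lit 3, nat_lit 12, nat_lit 1, nat_lit 9, nat_lit 1, nat_lit 9, nat_lit 1, nat_lit 18, nat_lit 16, nat_lit 10, nat_lit 2, nat_lit 0, nat_lit 3, nat_lit 3]],
  [[nat_lit 13, nat_lit 1, nat_lit 4],
   [nat_lit 12, nat_lit 1, nat_lit 5],
   [nat_lit 19, nat_lit 19, nat_lit 1, nat_lit 18],
   [nat_lit 18, nat_lit 18, nat_lit 1, nat_lit 19],
   [nat_lit 10, nat_lit 10, nat_lit 1, nat_lit 12],
   [nat_lit 11, nat_lit 11, nat_lit 1, nat_lit 13],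
   [nat_lit 0, nat_lit 3, nat_lit 1, nat_lit 1, nat_lit 2],
   [nat_lit 0, nat_lit 2, nat_lit 1, nat_lit 1, nat_lit 3],
   [nat_lit 6, nat_lit 1, nat_lit 1, nat_lit 1, nat_lit 7],
   [nat_lit 3, nat_lit 1, nat_lit 1, nat_lit 2, nat_lit 0],
   [nat_lit 2, nat_lit 1, nat_lit 1, nat_lit 3, nat_lit 0],
   [nat_lit 17, nat_lit 11, nat_lit 14, nat_lit 14, nat_lit 1, nat_lit 14],
   [nat_lit 15, nat_lit 15, nat_lit 10, nat_lit 16, nat_lit 1, nat_lit 15],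
   [nat_lit 17, nat_lit 11, nat_lit 17, nat_lit 14, nat_lit 12, nat_lit 11, nat_lit 1, nat_lit 16],
   [nat_lit 0, nat_lit 0, nat_lit 7, nat_lit 1, nat_lit 6],
   [nat_lit 0, nat_lit 7, nat_lit 1, nat_lit 6, nat_lit 0],
   [nat_lit 7, nat_lit 1, nat_lit 6, nat_lit 0, nat_lit 0],
   [nat_lit 0, nat_lit 7, nat_lit 7, nat_lit 0, nat_lit 0],
   [nat_lit 0, nat_lit 0, nat_lit 0, nat_lit 0, nat_lit 0, nat_lit 0, nat_lit 0],
   [nat_lit 0, nat_lit 0, nat_lit 7, nat_lit 7, nat_lit 0],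
   [nat_lit 0, nat_lit 0, nat_lit 0, nat_lit 7, nat_lit 7],
   [nat_lit 2, nat_lit 0, nat_lit 2, nat_lit 0, nat_lit 2, nat_lit 0, nat_lit 2],
   [nat_lit 10, nat_lit 13, nat_lit 15, nat_lit 16, nat_lit 10, nat_lit 16, nat_lit 1, nat_lit 17],
   [nat_lit 7, nat_lit 7, nat_lit 0, nat_lit 0, nat_lit 0],
   [nat_lit 16, nat_lit 10, nat_lit 13, nat_lit 1, nat_lit 3, nat_lit 3, nat_lit 9, nat_lit 14, nat_lit 8],
   [nat_lit 2, nat_lit 1, nat_lit 3, nat_lit 0, nat_lit 2, nat_lit 1, nat_lit 3, nat_lit 0, nat_lit 2, nat_lit 1, nat_lit 3],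
   [nat_lit 0, nat_lit 19, nat_lit 7, nat_lit 18, nat_lit 7, nat_lit 19, nat_lit 7],
   [nat_lit 0, nat_lit 8, nat_lit 16, nat_lit 19, nat_lit 11, nat_lit 1, nat_lit 2, nat_lit 1, nat_lit 3, nat_lit 3, nat_lit 1, nat_lit 8],
   [nat_lit 8, nat_lit 16, nat_lit 19, nat_lit 11, nat_lit 1, nat_lit 2, nat_lit 1, nat_lit 3, nat_lit 3, nat_lit 1, nat_lit 8, nat_lit 0],
   [nat_lit 2, nat_lit 2, nat_lit 0, nat_lit 3, nat_lit 0, nat_lit 8, nat_lit 16, nat_lit 19, nat_lit 11, nat_lit 1, nat_lit 1, nat_lit 8],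
   [nat_lit 13, nat_lit 2, nat_lit 8, nat_lit 7, nat_lit 0, nat_lit 2, nat_lit 2, nat_lit 1, nat_lit 3, nat_lit 11, nat_lit 17, nat_lit 19, nat_lit 0, nat_lit 8, nat_lit 0, nat_lit 8],
   [nat_lit 14, nat_lit 0, nat_lit 0, nat_lit 0, nat_lit 8, nat_lit 12, nat_lit 8, nat_lit 13, nat_lit 8, nat_lit 12, nat_lit 17],
   [nat_lit 8, nat_lit 16, nat_lit 19, nat_lit 11, nat_lit 1, nat_lit 1, nat_lit 8, nat_lit 0, nat_lit 2, nat_lit 2, nat_lit 0, nat_lit 3],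
   [nat_lit 19, nat_lit 7, nat_lit 18, nat_lit 7, nat_lit 19, nat_lit 7, nat_lit 0]],
  [[nat_lit 7, nat_lit 2, nat_lit 6],
   [nat_lit 17, nat_lit 2, nat_lit 4],
   [nat_lit 16, nat_lit 2, nat_lit 5],
   [nat_lit 5, nat_lit 2, nat_lit 14],
   [nat_lit 4, nat_lit 2, nat_lit 15],
   [nat_lit 19, nat_lit 2, nat_lit 18],
   [nat_lit 18, nat_lit 2, nat_lit 19],
   [nat_lit 6, nat_lit 2, nat_lit 7],
   [nat_lit 3, nat_lit 3, nat_lit 3, nat_lit 3],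
   [nat_lit 15, nat_lit 3, nat_lit 9, nat_lit 10, nat_lit 8, nat_lit 10],
   [nat_lit 3, nat_lit 9, nat_lit 16, nat_lit 8, nat_lit 17, nat_lit 14],
   [nat_lit 8, nat_lit 10, nat_lit 15, nat_lit 17, nat_lit 17, nat_lit 9],
   [nat_lit 9, nat_lit 16, nat_lit 8, nat_lit 17, nat_lit 14, nat_lit 3],
   [nat_lit 9, nat_lit 10, nat_lit 8, nat_lit 10, nat_lit 3, nat_lit 15],
   [nat_lit 12, nat_lit 2, nat_lit 16, nat_lit 10, nat_lit 16, nat_lit 15, nat_lit 13],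
   [nat_lit 13, nat_lit 2, nat_lit 12, nat_lit 14, nat_lit 17, nat_lit 11, nat_lit 17],
   [nat_lit 15, nat_lit 2, nat_lit 10, nat_lit 10, nat_lit 16, nat_lit 15, nat_lit 15],
   [nat_lit 14, nat_lit 2, nat_lit 14, nat_lit 14, nat_lit 17, nat_lit 11, nat_lit 11],
   [nat_lit 1, nat_lit 1, nat_lit 2, nat_lit 0, nat_lit 0],
   [nat_lit 0, nat_lit 0, nat_lit 2, nat_lit 1, nat_lit 1],
   [nat_lit 9, nat_lit 14, nat_lit 8, nat_lit 0, nat_lit 16, nat_lit 10, nat_lit 13, nat_lit 1, nat_lit 3],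
   [nat_lit 1, nat_lit 3, nat_lit 1, nat_lit 3, nat_lit 1, nat_lit 3, nat_lit 1],
   [nat_lit 3, nat_lit 1, nat_lit 11, nat_lit 0, nat_lit 10, nat_lit 1, nat_lit 10, nat_lit 0, nat_lit 6, nat_lit 10, nat_lit 2, nat_lit 0, nat_lit 3, nat_lit 6, nat_lit 10, nat_lit 6, nat_lit 9],
   [nat_lit 1, nat_lit 2, nat_lit 0, nat_lit 3, nat_lit 1, nat_lit 2, nat_lit 0, nat_lit 3, nat_lit 1, nat_lit 2, nat_lit 0],
   [nat_lit 3, nat_lit 1, nat_lit 9, nat_lit 0, nat_lit 0, nat_lit 10, nat_lit 18, nat_lit 17, nat_lit 9, nat_lit 1, nat_lit 2, nat_lit 1],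
   [nat_lit 1, nat_lit 8, nat_lit 0, nat_lit 0, nat_lit 8, nat_lit 16, nat_lit 19, nat_lit 11, nat_lit 1, nat_lit 2, nat_lit 1, nat_lit 3],
   [nat_lit 1, nat_lit 6, nat_lit 9, nat_lit 3, nat_lit 12, nat_lit 1, nat_lit 9, nat_lit 1, nat_lit 9, nat_lit 1, nat_lit 18, nat_lit 16, nat_lit 10, nat_lit 2, nat_lit 0, nat_lit 3],
   [nat_lit 3, nat_lit 1, nat_lit 6, nat_lit 9, nat_lit 3, nat_lit 12, nat_lit 1, nat_lit 9, nat_lit 1, nat_lit 9, nat_lit 1, nat_lit 18, nat_lit 16, nat_lit 10, nat_lit 2, nat_lit 0]],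
  [[nat_lit 7, nat_lit 3, nat_lit 6],
   [nat_lit 15, nat_lit 3, nat_lit 4],
   [nat_lit 14, nat_lit 3, nat_lit 5],
   [nat_lit 5, nat_lit 3, nat_lit 16],
   [nat_lit 4, nat_lit 3, nat_lit 17],
   [nat_lit 19, nat_lit 3, nat_lit 18],
   [nat_lit 18, nat_lit 3, nat_lit 19],
   [nat_lit 6, nat_lit 3, nat_lit 7],
   [nat_lit 2, nat_lit 2, nat_lit 2, nat_lit 2],
   [nat_lit 8, nat_lit 16, nat_lit 16, nat_lit 14, nat_lit 11, nat_lit 9],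
   [nat_lit 15, nat_lit 16, nat_lit 9, nat_lit 17, nat_lit 8, nat_lit 2],
   [nat_lit 2, nat_lit 15, nat_lit 16, nat_lit 9, nat_lit 17, nat_lit 8],
   [nat_lit 11, nat_lit 9, nat_lit 11, nat_lit 8, nat_lit 2, nat_lit 14],
   [nat_lit 14, nat_lit 2, nat_lit 11, nat_lit 9, nat_lit 11, nat_lit 8],
   [nat_lit 16, nat_lit 10, nat_lit 16, nat_lit 15, nat_lit 13, nat_lit 3, nat_lit 12],
   [nat_lit 12, nat_lit 14, nat_lit 17, nat_lit 11, nat_lit 17, nat_lit 3, nat_lit 13],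
   [nat_lit 14, nat_lit 14, nat_lit 17, nat_lit 11, nat_lit 11, nat_lit 3, nat_lit 14],
   [nat_lit 0, nat_lit 2, nat_lit 0, nat_lit 2, nat_lit 0, nat_lit 2, nat_lit 0],
   [nat_lit 0, nat_lit 0, nat_lit 3, nat_lit 1, nat_lit 1],
   [nat_lit 10, nat_lit 10, nat_lit 16, nat_lit 15, nat_lit 15, nat_lit 3, nat_lit 15],
   [nat_lit 1, nat_lit 1, nat_lit 3, nat_lit 0, nat_lit 0],
   [nat_lit 1, nat_lit 3, nat_lit 0, nat_lit 2, nat_lit 1, nat_lit 3, nat_lit 0, nat_lit 2, nat_lit 1, nat_lit 3, nat_lit 0],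
   [nat_lit 0, nat_lit 3, nat_lit 1, nat_lit 2, nat_lit 0, nat_lit 3, nat_lit 1, nat_lit 2, nat_lit 0, nat_lit 3, nat_lit 1],
   [nat_lit 2, nat_lit 0, nat_lit 3, nat_lit 0, nat_lit 8, nat_lit 16, nat_lit 19, nat_lit 11, nat_lit 1, nat_lit 1, nat_lit 8, nat_lit 0],
   [nat_lit 2, nat_lit 0, nat_lit 3, nat_lit 0, nat_lit 10, nat_lit 18, nat_lit 17, nat_lit 9, nat_lit 1, nat_lit 1, nat_lit 9, nat_lit 0],
   [nat_lit 1, nat_lit 3, nat_lit 3, nat_lit 1, nat_lit 8, nat_lit 0, nat_lit 0, nat_lit 8, nat_lit 16, nat_lit 19, nat_lit 11, nat_lit 1],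
   [nat_lit 8, nat_lit 7, nat_lit 0, nat_lit 2, nat_lit 2, nat_lit 1, nat_lit 3, nat_lit 11, nat_lit 17, nat_lit 19, nat_lit 0, nat_lit 8, nat_lit 0, nat_lit 8, nat_lit 0, nat_lit 13],
   [nat_lit 2, nat_lit 0, nat_lit 12, nat_lit 11, nat_lit 17, nat_lit 1, nat_lit 9, nat_lit 15, nat_lit 8],
   [nat_lit 1, nat_lit 3, nat_lit 11, nat_lit 17, nat_lit 19, nat_lit 0, nat_lit 8, nat_lit 0, nat_lit 8, nat_lit 0, nat_lit 13, nat_lit 2, nat_lit 8, nat_lit 7, nat_lit 0, nat_lit 2]],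
  [[nat_lit 10],
   [nat_lit 0, nat_lit 12, nat_lit 1],
   [nat_lit 2, nat_lit 14, nat_lit 3],
   [nat_lit 3, nat_lit 16, nat_lit 2]],
  [[nat_lit 11],
   [nat_lit 0, nat_lit 13, nat_lit 1],
   [nat_lit 3, nat_lit 17, nat_lit 2],
   [nat_lit 2, nat_lit 15, nat_lit 3]],
  [[nat_lit 19, nat_lit 7, nat_lit 0, nat_lit 0, nat_lit 19, nat_lit 7, nat_lit 18],
   [nat_lit 7, nat_lit 0, nat_lit 0, nat_lit 0, nat_lit 0],
   [nat_lit 3, nat_lit 6, nat_lit 2],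
   [nat_lit 2, nat_lit 6, nat_lit 3],
   [nat_lit 0, nat_lit 6, nat_lit 1, nat_lit 1, nat_lit 1],
   [nat_lit 0, nat_lit 0, nat_lit 0, nat_lit 0, nat_lit 7],
   [nat_lit 1, nat_lit 6, nat_lit 0, nat_lit 0, nat_lit 0],
   [nat_lit 18, nat_lit 7, nat_lit 19, nat_lit 7, nat_lit 0, nat_lit 0, nat_lit 19],
   [nat_lit 19, nat_lit 7, nat_lit 19, nat_lit 7, nat_lit 19, nat_lit 7, nat_lit 19, nat_lit 7, nat_lit 19],
   [nat_lit 0, nat_lit 0, nat_lit 19, nat_lit 7, nat_lit 18, nat_lit 7, nat_lit 19],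
   [nat_lit 0, nat_lit 2, nat_lit 2, nat_lit 1, nat_lit 3, nat_lit 11, nat_lit 17, nat_lit 19, nat_lit 0, nat_lit 8, nat_lit 0, nat_lit 8, nat_lit 0, nat_lit 13, nat_lit 2, nat_lit 8]],
  [[nat_lit 6, nat_lit 1, nat_lit 1, nat_lit 1, nat_lit 1],
   [nat_lit 1, nat_lit 1, nat_lit 1, nat_lit 1, nat_lit 6],
   [nat_lit 3, nat_lit 7, nat_lit 2],
   [nat_lit 2, nat_lit 7, nat_lit 3],
   [nat_lit 0, nat_lit 0, nat_lit 0, nat_lit 7, nat_lit 1],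
   [nat_lit 19, nat_lit 6, nat_lit 18, nat_lit 1, nat_lit 1, nat_lit 6, nat_lit 18],
   [nat_lit 18, nat_lit 1, nat_lit 1, nat_lit 6, nat_lit 18, nat_lit 6, nat_lit 19],
   [nat_lit 9, nat_lit 3, nat_lit 3, nat_lit 1, nat_lit 11, nat_lit 0, nat_lit 10, nat_lit 1, nat_lit 10, nat_lit 0, nat_lit 6, nat_lit 10, nat_lit 2, nat_lit 0, nat_lit 3, nat_lit 6, nat_lit 10],
   [nat_lit 1, nat_lit 1, nat_lit 1, nat_lit 7, nat_lit 0],
   [nat_lit 18, nat_lit 6, nat_lit 19, nat_lit 6, nat_lit 18, nat_lit 1, nat_lit 1],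
   [nat_lit 9, nat_lit 3, nat_lit 12, nat_lit 1, nat_lit 9, nat_lit 1, nat_lit 9, nat_lit 1, nat_lit 18, nat_lit 16, nat_lit 10, nat_lit 2, nat_lit 0, nat_lit 3, nat_lit 3, nat_lit 1]],
  [[nat_lit 9],
   [nat_lit 11, nat_lit 8, nat_lit 2, nat_lit 14, nat_lit 2, nat_lit 11],
   [nat_lit 16, nat_lit 8, nat_lit 17, nat_lit 14, nat_lit 3, nat_lit 3],
   [nat_lit 2, nat_lit 8, nat_lit 16, nat_lit 16, nat_lit 14, nat_lit 11],
   [nat_lit 18, nat_lit 8, nat_lit 16, nat_lit 11, nat_lit 14, nat_lit 11],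
   [nat_lit 17, nat_lit 8, nat_lit 2, nat_lit 2, nat_lit 15, nat_lit 16],
   [nat_lit 10, nat_lit 8, nat_lit 10, nat_lit 3, nat_lit 15, nat_lit 3],
   [nat_lit 19, nat_lit 8, nat_lit 10, nat_lit 15, nat_lit 10, nat_lit 17],
   [nat_lit 3, nat_lit 8, nat_lit 10, nat_lit 15, nat_lit 17, nat_lit 17],
   [nat_lit 14, nat_lit 8, nat_lit 0, nat_lit 16, nat_lit 10, nat_lit 13, nat_lit 1, nat_lit 3, nat_lit 3],
   [nat_lit 13, nat_lit 9, nat_lit 1, nat_lit 1, nat_lit 1, nat_lit 15, nat_lit 1, nat_lit 16, nat_lit 13, nat_lit 9, nat_lit 12],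
   [nat_lit 15, nat_lit 8, nat_lit 2, nat_lit 2, nat_lit 0, nat_lit 12, nat_lit 11, nat_lit 17, nat_lit 1],
   [nat_lit 1, nat_lit 1, nat_lit 9, nat_lit 0, nat_lit 2, nat_lit 2, nat_lit 0, nat_lit 3, nat_lit 0, nat_lit 10, nat_lit 18, nat_lit 17],
   [nat_lit 0, nat_lit 2, nat_lit 2, nat_lit 0, nat_lit 3, nat_lit 0, nat_lit 10, nat_lit 18, nat_lit 17, nat_lit 9, nat_lit 1, nat_lit 1],
   [nat_lit 1, nat_lit 1, nat_lit 1, nat_lit 15, nat_lit 1, nat_lit 16, nat_lit 13, nat_lit 9, nat_lit 12, nat_lit 9, nat_lit 13],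
   [nat_lit 12, nat_lit 9, nat_lit 13, nat_lit 9, nat_lit 1, nat_lit 1, nat_lit 1, nat_lit 15, nat_lit 1, nat_lit 16, nat_lit 13],
   [nat_lit 0, nat_lit 0, nat_lit 10, nat_lit 18, nat_lit 17, nat_lit 9, nat_lit 1, nat_lit 2, nat_lit 1, nat_lit 3, nat_lit 3, nat_lit 1],
   [nat_lit 1, nat_lit 2, nat_lit 1, nat_lit 3, nat_lit 3, nat_lit 1, nat_lit 9, nat_lit 0, nat_lit 0, nat_lit 10, nat_lit 18, nat_lit 17],
   [nat_lit 3, nat_lit 12, nat_lit 1, nat_lit 9, nat_lit 1, nat_lit 9, nat_lit 1, nat_lit 18, nat_lit 16, nat_lit 10, nat_lit 2, nat_lit 0, nat_lit 3, nat_lit 3, nat_lit 1, nat_lit 6]],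
  [[nat_lit 16, nat_lit 11, nat_lit 14, nat_lit 11, nat_lit 9, nat_lit 18],
   [nat_lit 16, nat_lit 16, nat_lit 14, nat_lit 11, nat_lit 9, nat_lit 2],
   [nat_lit 8],
   [nat_lit 17, nat_lit 14, nat_lit 3, nat_lit 3, nat_lit 9, nat_lit 16],
   [nat_lit 2, nat_lit 14, nat_lit 2, nat_lit 11, nat_lit 9, nat_lit 11],
   [nat_lit 10, nat_lit 15, nat_lit 10, nat_lit 17, nat_lit 9, nat_lit 19],
   [nat_lit 10, nat_lit 15, nat_lit 17, nat_lit 17, nat_lit 9, nat_lit 3],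
   [nat_lit 10, nat_lit 3, nat_lit 15, nat_lit 3, nat_lit 9, nat_lit 10],
   [nat_lit 2, nat_lit 2, nat_lit 15, nat_lit 16, nat_lit 9, nat_lit 17],
   [nat_lit 2, nat_lit 2, nat_lit 0, nat_lit 12, nat_lit 11, nat_lit 17, nat_lit 1, nat_lit 9, nat_lit 15],
   [nat_lit 0, nat_lit 16, nat_lit 10, nat_lit 13, nat_lit 1, nat_lit 3, nat_lit 3, nat_lit 9, nat_lit 14],
   [nat_lit 0, nat_lit 0, nat_lit 8, nat_lit 16, nat_lit 19, nat_lit 11, nat_lit 1, nat_lit 2, nat_lit 1, nat_lit 3, nat_lit 3, nat_lit 1],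
   [nat_lit 12, nat_lit 17, nat_lit 0, nat_lit 14, nat_lit 0, nat_lit 0, nat_lit 0, nat_lit 8, nat_lit 12, nat_lit 8, nat_lit 13],
   [nat_lit 13, nat_lit 8, nat_lit 12, nat_lit 17, nat_lit 0, nat_lit 14, nat_lit 0, nat_lit 0, nat_lit 0, nat_lit 8, nat_lit 12],
   [nat_lit 16, nat_lit 19, nat_lit 11, nat_lit 1, nat_lit 2, nat_lit 1, nat_lit 3, nat_lit 3, nat_lit 1, nat_lit 8, nat_lit 0, nat_lit 0],
   [nat_lit 0, nat_lit 2, nat_lit 2, nat_lit 0, nat_lit 3, nat_lit 0, nat_lit 8, nat_lit 16, nat_lit 19, nat_lit 11, nat_lit 1, nat_lit 1],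
   [nat_lit 12, nat_lit 8, nat_lit 13, nat_lit 8, nat_lit 12, nat_lit 17, nat_lit 0, nat_lit 14, nat_lit 0, nat_lit 0, nat_lit 0],
   [nat_lit 16, nat_lit 19, nat_lit 11, nat_lit 1, nat_lit 1, nat_lit 8, nat_lit 0, nat_lit 2, nat_lit 2, nat_lit 0, nat_lit 3, nat_lit 0],
   [nat_lit 7, nat_lit 0, nat_lit 2, nat_lit 2, nat_lit 1, nat_lit 3, nat_lit 11, nat_lit 17, nat_lit 19, nat_lit 0, nat_lit 8, nat_lit 0, nat_lit 8, nat_lit 0, nat_lit 13, nat_lit 2]],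
  [[nat_lit 4],
   [nat_lit 19, nat_lit 10, nat_lit 18],
   [nat_lit 18, nat_lit 10, nat_lit 19],
   [nat_lit 1, nat_lit 13, nat_lit 0, nat_lit 11],
   [nat_lit 12, nat_lit 10, nat_lit 18, nat_lit 13],
   [nat_lit 11, nat_lit 1, nat_lit 13, nat_lit 0],
   [nat_lit 13, nat_lit 10, nat_lit 12, nat_lit 19],
   [nat_lit 11, nat_lit 11, nat_lit 11, nat_lit 11],
   [nat_lit 14, nat_lit 10, nat_lit 19, nat_lit 19, nat_lit 15],
   [nat_lit 16, nat_lit 10, nat_lit 18, nat_lit 18, nat_lit 17],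
   [nat_lit 15, nat_lit 10, nat_lit 14, nat_lit 18, nat_lit 18],
   [nat_lit 17, nat_lit 10, nat_lit 16, nat_lit 19, nat_lit 19],
   [nat_lit 9, nat_lit 11, nat_lit 8, nat_lit 2, nat_lit 14, nat_lit 2],
   [nat_lit 8, nat_lit 2, nat_lit 14, nat_lit 2, nat_lit 11, nat_lit 9],
   [nat_lit 9, nat_lit 18, nat_lit 8, nat_lit 16, nat_lit 11, nat_lit 14],
   [nat_lit 9, nat_lit 2, nat_lit 8, nat_lit 16, nat_lit 16, nat_lit 14],
   [nat_lit 14, nat_lit 11, nat_lit 9, nat_lit 18, nat_lit 8, nat_lit 16],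
   [nat_lit 17, nat_lit 3, nat_lit 13, nat_lit 2, nat_lit 12, nat_lit 14, nat_lit 17],
   [nat_lit 11, nat_lit 3, nat_lit 14, nat_lit 2, nat_lit 14, nat_lit 14, nat_lit 17],
   [nat_lit 3, nat_lit 14, nat_lit 2, nat_lit 14, nat_lit 14, nat_lit 17, nat_lit 11],
   [nat_lit 21],
   [nat_lit 17, nat_lit 1, nat_lit 9, nat_lit 15, nat_lit 8, nat_lit 2, nat_lit 2, nat_lit 0, nat_lit 12],
   [nat_lit 1, nat_lit 16, nat_lit 0, nat_lit 17, nat_lit 11, nat_lit 17, nat_lit 14, nat_lit 12],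
   [nat_lit 14, nat_lit 14, nat_lit 1, nat_lit 14, nat_lit 0, nat_lit 17],
   [nat_lit 17, nat_lit 14, nat_lit 12, nat_lit 11, nat_lit 1, nat_lit 16, nat_lit 0, nat_lit 17]],
  [[nat_lit 5],
   [nat_lit 19, nat_lit 11, nat_lit 18],
   [nat_lit 18, nat_lit 11, nat_lit 19],
   [nat_lit 18, nat_lit 13, nat_lit 11, nat_lit 12],
   [nat_lit 1, nat_lit 12, nat_lit 0, nat_lit 10],
   [nat_lit 12, nat_lit 19, nat_lit 11, nat_lit 13],
   [nat_lit 10, nat_lit 1, nat_lit 12, nat_lit 0],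
   [nat_lit 10, nat_lit 10, nat_lit 10, nat_lit 10],
   [nat_lit 16, nat_lit 19, nat_lit 19, nat_lit 11, nat_lit 17],
   [nat_lit 18, nat_lit 18, nat_lit 17, nat_lit 11, nat_lit 16],
   [nat_lit 14, nat_lit 18, nat_lit 18, nat_lit 11, nat_lit 15],
   [nat_lit 19, nat_lit 19, nat_lit 15, nat_lit 11, nat_lit 14],
   [nat_lit 17, nat_lit 9, nat_lit 19, nat_lit 8, nat_lit 10, nat_lit 15],
   [nat_lit 8, nat_lit 10, nat_lit 3, nat_lit 15, nat_lit 3, nat_lit 9],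
   [nat_lit 15, nat_lit 10, nat_lit 17, nat_lit 9, nat_lit 19, nat_lit 8],
   [nat_lit 15, nat_lit 17, nat_lit 17, nat_lit 9, nat_lit 3, nat_lit 8],
   [nat_lit 3, nat_lit 15, nat_lit 3, nat_lit 9, nat_lit 10, nat_lit 8],
   [nat_lit 16, nat_lit 15, nat_lit 13, nat_lit 3, nat_lit 12, nat_lit 2, nat_lit 16],
   [nat_lit 16, nat_lit 15, nat_lit 15, nat_lit 3, nat_lit 15, nat_lit 2, nat_lit 10],
   [nat_lit 16, nat_lit 1, nat_lit 15, nat_lit 0, nat_lit 15, nat_lit 15],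
   [nat_lit 13, nat_lit 15, nat_lit 16, nat_lit 10, nat_lit 16, nat_lit 1, nat_lit 17, nat_lit 0],
   [nat_lit 10, nat_lit 16, nat_lit 15, nat_lit 15, nat_lit 3, nat_lit 15, nat_lit 2],
   [nat_lit 18, nat_lit 17, nat_lit 9, nat_lit 1, nat_lit 2, nat_lit 1, nat_lit 3, nat_lit 3, nat_lit 1, nat_lit 9, nat_lit 0, nat_lit 0],
   [nat_lit 13, nat_lit 1, nat_lit 3, nat_lit 3, nat_lit 9, nat_lit 14, nat_lit 8, nat_lit 0, nat_lit 16],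
   [nat_lit 16, nat_lit 1, nat_lit 17, nat_lit 0, nat_lit 10, nat_lit 13, nat_lit 15, nat_lit 16]],
  [[nat_lit 17, nat_lit 12, nat_lit 16],
   [nat_lit 16, nat_lit 12, nat_lit 17],
   [nat_lit 19, nat_lit 12, nat_lit 18],
   [nat_lit 18, nat_lit 12, nat_lit 19],
   [nat_lit 1, nat_lit 4, nat_lit 0],
   [nat_lit 10, nat_lit 12, nat_lit 19, nat_lit 11],
   [nat_lit 15, nat_lit 12, nat_lit 14, nat_lit 18],
   [nat_lit 11, nat_lit 12, nat_lit 10, nat_lit 18],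
   [nat_lit 14, nat_lit 12, nat_lit 19, nat_lit 15],
   [nat_lit 0, nat_lit 11, nat_lit 11, nat_lit 1],
   [nat_lit 2, nat_lit 12, nat_lit 14, nat_lit 17, nat_lit 11, nat_lit 17, nat_lit 3],
   [nat_lit 21],
   [nat_lit 3, nat_lit 12, nat_lit 2, nat_lit 16, nat_lit 10, nat_lit 16, nat_lit 15],
   [nat_lit 9, nat_lit 1, nat_lit 1, nat_lit 1, nat_lit 15, nat_lit 1, nat_lit 16, nat_lit 13, nat_lit 9, nat_lit 12, nat_lit 9],
   [nat_lit 15, nat_lit 16, nat_lit 10, nat_lit 16, nat_lit 1, nat_lit 17, nat_lit 0, nat_lit 10],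
   [nat_lit 8, nat_lit 12, nat_lit 17, nat_lit 0, nat_lit 14, nat_lit 0, nat_lit 0, nat_lit 0, nat_lit 8, nat_lit 12, nat_lit 8],
   [nat_lit 9, nat_lit 12, nat_lit 9, nat_lit 13, nat_lit 9, nat_lit 1, nat_lit 1, nat_lit 1, nat_lit 15, nat_lit 1, nat_lit 16]],
  [[nat_lit 17, nat_lit 13, nat_lit 16],
   [nat_lit 16, nat_lit 13, nat_lit 17],
   [nat_lit 19, nat_lit 13, nat_lit 18],
   [nat_lit 18, nat_lit 13, nat_lit 19],
   [nat_lit 1, nat_lit 5, nat_lit 0],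
   [nat_lit 19, nat_lit 11, nat_lit 13, nat_lit 10],
   [nat_lit 10, nat_lit 18, nat_lit 13, nat_lit 11],
   [nat_lit 19, nat_lit 15, nat_lit 13, nat_lit 14],
   [nat_lit 14, nat_lit 18, nat_lit 13, nat_lit 15],
   [nat_lit 0, nat_lit 10, nat_lit 10, nat_lit 1],
   [nat_lit 14, nat_lit 17, nat_lit 11, nat_lit 17, nat_lit 3, nat_lit 13, nat_lit 2],
   [nat_lit 2, nat_lit 16, nat_lit 10, nat_lit 16, nat_lit 15, nat_lit 13, nat_lit 3],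
   [nat_lit 9, nat_lit 13, nat_lit 9, nat_lit 1, nat_lit 1, nat_lit 1, nat_lit 15, nat_lit 1, nat_lit 16, nat_lit 13, nat_lit 9],
   [nat_lit 11, nat_lit 1, nat_lit 16, nat_lit 0, nat_lit 17, nat_lit 11, nat_lit 17, nat_lit 14],
   [nat_lit 11, nat_lit 17, nat_lit 1, nat_lit 9, nat_lit 15, nat_lit 8, nat_lit 2, nat_lit 2, nat_lit 0],
   [nat_lit 8, nat_lit 13, nat_lit 8, nat_lit 12, nat_lit 17, nat_lit 0, nat_lit 14, nat_lit 0, nat_lit 0, nat_lit 0, nat_lit 8]],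
  [[nat_lit 19, nat_lit 14, nat_lit 18],
   [nat_lit 18, nat_lit 14, nat_lit 19],
   [nat_lit 3, nat_lit 4, nat_lit 2],
   [nat_lit 13, nat_lit 14, nat_lit 12, nat_lit 19],
   [nat_lit 12, nat_lit 14, nat_lit 18, nat_lit 13],
   [nat_lit 17, nat_lit 14, nat_lit 16, nat_lit 18],
   [nat_lit 16, nat_lit 14, nat_lit 19, nat_lit 17],
   [nat_lit 10, nat_lit 14, nat_lit 18, nat_lit 18, nat_lit 11],
   [nat_lit 11, nat_lit 14, nat_lit 10, nat_lit 19, nat_lit 19],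
   [nat_lit 3, nat_lit 9, nat_lit 10, nat_lit 8, nat_lit 10, nat_lit 3],
   [nat_lit 10, nat_lit 17, nat_lit 9, nat_lit 19, nat_lit 8, nat_lit 10],
   [nat_lit 17, nat_lit 17, nat_lit 9, nat_lit 3, nat_lit 8, nat_lit 10],
   [nat_lit 16, nat_lit 9, nat_lit 17, nat_lit 8, nat_lit 2, nat_lit 2],
   [nat_lit 0, nat_lit 15, nat_lit 15, nat_lit 10, nat_lit 16, nat_lit 1],
   [nat_lit 13, nat_lit 3, nat_lit 12, nat_lit 2, nat_lit 16, nat_lit 10, nat_lit 16],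
   [nat_lit 2, nat_lit 10, nat_lit 10, nat_lit 16, nat_lit 15, nat_lit 15, nat_lit 3],
   [nat_lit 3, nat_lit 15, nat_lit 2, nat_lit 10, nat_lit 10, nat_lit 16, nat_lit 15],
   [nat_lit 21],
   [nat_lit 15, nat_lit 10, nat_lit 16, nat_lit 1, nat_lit 15, nat_lit 0],
   [nat_lit 10, nat_lit 16, nat_lit 1, nat_lit 15, nat_lit 0, nat_lit 15],
   [nat_lit 8, nat_lit 2, nat_lit 2, nat_lit 0, nat_lit 12, nat_lit 11, nat_lit 17, nat_lit 1, nat_lit 9],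
   [nat_lit 15, nat_lit 3, nat_lit 15, nat_lit 2, nat_lit 10, nat_lit 10, nat_lit 16],
   [nat_lit 16, nat_lit 10, nat_lit 16, nat_lit 1, nat_lit 17, nat_lit 0, nat_lit 10, nat_lit 13],
   [nat_lit 1, nat_lit 16, nat_lit 13, nat_lit 9, nat_lit 12, nat_lit 9, nat_lit 13, nat_lit 9, nat_lit 1, nat_lit 1, nat_lit 1]],
  [[nat_lit 19, nat_lit 15, nat_lit 18],
   [nat_lit 18, nat_lit 15, nat_lit 19],
   [nat_lit 3, nat_lit 5, nat_lit 2],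
   [nat_lit 19, nat_lit 17, nat_lit 15, nat_lit 16],
   [nat_lit 16, nat_lit 18, nat_lit 15, nat_lit 17],
   [nat_lit 12, nat_lit 19, nat_lit 15, nat_lit 13],
   [nat_lit 18, nat_lit 18, nat_lit 11, nat_lit 15, nat_lit 10],
   [nat_lit 18, nat_lit 13, nat_lit 15, nat_lit 12],
   [nat_lit 10, nat_lit 19, nat_lit 19, nat_lit 15, nat_lit 11],
   [nat_lit 3, nat_lit 3, nat_lit 9, nat_lit 16, nat_lit 8, nat_lit 17],
   [nat_lit 14, nat_lit 1, nat_lit 14, nat_lit 0, nat_lit 17, nat_lit 11],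
   [nat_lit 11, nat_lit 9, nat_lit 18, nat_lit 8, nat_lit 16, nat_lit 11],
   [nat_lit 0, nat_lit 17, nat_lit 11, nat_lit 14, nat_lit 14, nat_lit 1],
   [nat_lit 2, nat_lit 11, nat_lit 9, nat_lit 11, nat_lit 8, nat_lit 2],
   [nat_lit 11, nat_lit 9, nat_lit 2, nat_lit 8, nat_lit 16, nat_lit 16],
   [nat_lit 1, nat_lit 14, nat_lit 0, nat_lit 17, nat_lit 11, nat_lit 14],
   [nat_lit 17, nat_lit 11, nat_lit 17, nat_lit 3, nat_lit 13, nat_lit 2, nat_lit 12],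
   [nat_lit 14, nat_lit 17, nat_lit 11, nat_lit 11, nat_lit 3, nat_lit 14, nat_lit 2],
   [nat_lit 2, nat_lit 14, nat_lit 14, nat_lit 17, nat_lit 11, nat_lit 11, nat_lit 3],
   [nat_lit 12, nat_lit 11, nat_lit 1, nat_lit 16, nat_lit 0, nat_lit 17, nat_lit 11, nat_lit 17],
   [nat_lit 8, nat_lit 0, nat_lit 16, nat_lit 10, nat_lit 13, nat_lit 1, nat_lit 3, nat_lit 3, nat_lit 9],
   [nat_lit 17, nat_lit 11, nat_lit 11, nat_lit 3, nat_lit 14, nat_lit 2, nat_lit 14],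
   [nat_lit 0, nat_lit 0, nat_lit 0, nat_lit 8, nat_lit 12, nat_lit 8, nat_lit 13, nat_lit 8, nat_lit 12, nat_lit 17, nat_lit 0]],
  [[nat_lit 19, nat_lit 16, nat_lit 18],
   [nat_lit 18, nat_lit 16, nat_lit 19],
   [nat_lit 2, nat_lit 4, nat_lit 3],
   [nat_lit 12, nat_lit 16, nat_lit 13],
   [nat_lit 15, nat_lit 16, nat_lit 14, nat_lit 19],
   [nat_lit 14, nat_lit 16, nat_lit 18, nat_lit 15],
   [nat_lit 13, nat_lit 16, nat_lit 12],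
   [nat_lit 11, nat_lit 16, nat_lit 10, nat_lit 18, nat_lit 18],
   [nat_lit 10, nat_lit 16, nat_lit 19, nat_lit 19, nat_lit 11],
   [nat_lit 8, nat_lit 2, nat_lit 2, nat_lit 15, nat_lit 16, nat_lit 9],
   [nat_lit 11, nat_lit 14, nat_lit 14, nat_lit 1, nat_lit 14, nat_lit 0],
   [nat_lit 9, nat_lit 19, nat_lit 8, nat_lit 10, nat_lit 15, nat_lit 10],
   [nat_lit 9, nat_lit 3, nat_lit 8, nat_lit 10, nat_lit 15, nat_lit 17],
   [nat_lit 17, nat_lit 9, nat_lit 3, nat_lit 8, nat_lit 10, nat_lit 15],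
   [nat_lit 14, nat_lit 3, nat_lit 3, nat_lit 9, nat_lit 16, nat_lit 8],
   [nat_lit 3, nat_lit 13, nat_lit 2, nat_lit 12, nat_lit 14, nat_lit 17, nat_lit 11],
   [nat_lit 11, nat_lit 11, nat_lit 3, nat_lit 14, nat_lit 2, nat_lit 14, nat_lit 14],
   [nat_lit 0, nat_lit 10, nat_lit 13, nat_lit 15, nat_lit 16, nat_lit 10, nat_lit 16, nat_lit 1],
   [nat_lit 1, nat_lit 9, nat_lit 15, nat_lit 8, nat_lit 2, nat_lit 2, nat_lit 0, nat_lit 12, nat_lit 11],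
   [nat_lit 21],
   [nat_lit 11, nat_lit 17, nat_lit 14, nat_lit 12, nat_lit 11, nat_lit 1, nat_lit 16, nat_lit 0],
   [nat_lit 11, nat_lit 17, nat_lit 3, nat_lit 13, nat_lit 2, nat_lit 12, nat_lit 14],
   [nat_lit 9, nat_lit 1, nat_lit 2, nat_lit 1, nat_lit 3, nat_lit 3, nat_lit 1, nat_lit 9, nat_lit 0, nat_lit 0, nat_lit 10, nat_lit 18],
   [nat_lit 14, nat_lit 12, nat_lit 11, nat_lit 1, nat_lit 16, nat_lit 0, nat_lit 17, nat_lit 11],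
   [nat_lit 0, nat_lit 14, nat_lit 0, nat_lit 0, nat_lit 0, nat_lit 8, nat_lit 12, nat_lit 8, nat_lit 13, nat_lit 8, nat_lit 12]],
  [[nat_lit 19, nat_lit 17, nat_lit 18],
   [nat_lit 18, nat_lit 17, nat_lit 19],
   [nat_lit 2, nat_lit 5, nat_lit 3],
   [nat_lit 13, nat_lit 17, nat_lit 12],
   [nat_lit 12, nat_lit 17, nat_lit 13],
   [nat_lit 18, nat_lit 15, nat_lit 17, nat_lit 14],
   [nat_lit 14, nat_lit 19, nat_lit 17, nat_lit 15],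
   [nat_lit 19, nat_lit 19, nat_lit 11, nat_lit 17, nat_lit 10],
   [nat_lit 10, nat_lit 18, nat_lit 18, nat_lit 17, nat_lit 11],
   [nat_lit 14, nat_lit 11, nat_lit 9, nat_lit 2, nat_lit 8, nat_lit 16],
   [nat_lit 8, nat_lit 17, nat_lit 14, nat_lit 3, nat_lit 3, nat_lit 9],
   [nat_lit 1, nat_lit 15, nat_lit 0, nat_lit 15, nat_lit 15, nat_lit 10],
   [nat_lit 9, nat_lit 17, nat_lit 8, nat_lit 2, nat_lit 2, nat_lit 15],
   [nat_lit 16, nat_lit 14, nat_lit 11, nat_lit 9, nat_lit 2, nat_lit 8],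
   [nat_lit 11, nat_lit 14, nat_lit 11, nat_lit 9, nat_lit 18, nat_lit 8],
   [nat_lit 10, nat_lit 16, nat_lit 15, nat_lit 13, nat_lit 3, nat_lit 12, nat_lit 2],
   [nat_lit 15, nat_lit 13, nat_lit 3, nat_lit 12, nat_lit 2, nat_lit 16, nat_lit 10],
   [nat_lit 0, nat_lit 17, nat_lit 11, nat_lit 17, nat_lit 14, nat_lit 12, nat_lit 11, nat_lit 1],
   [nat_lit 1, nat_lit 17, nat_lit 0, nat_lit 10, nat_lit 13, nat_lit 15, nat_lit 16, nat_lit 10],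
   [nat_lit 15, nat_lit 15, nat_lit 3, nat_lit 15, nat_lit 2, nat_lit 10, nat_lit 10],
   [nat_lit 10, nat_lit 16, nat_lit 1, nat_lit 17, nat_lit 0, nat_lit 10, nat_lit 13, nat_lit 15],
   [nat_lit 10, nat_lit 13, nat_lit 1, nat_lit 3, nat_lit 3, nat_lit 9, nat_lit 14, nat_lit 8, nat_lit 0],
   [nat_lit 13, nat_lit 9, nat_lit 12, nat_lit 9, nat_lit 13, nat_lit 9, nat_lit 1, nat_lit 1, nat_lit 1, nat_lit 15, nat_lit 1]],
  [[nat_lit 13, nat_lit 18, nat_lit 12],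
   [nat_lit 15, nat_lit 18, nat_lit 14],
   [nat_lit 17, nat_lit 18, nat_lit 16],
   [nat_lit 16, nat_lit 18, nat_lit 17],
   [nat_lit 2, nat_lit 18, nat_lit 3],
   [nat_lit 3, nat_lit 18, nat_lit 2],
   [nat_lit 14, nat_lit 18, nat_lit 15],
   [nat_lit 11, nat_lit 18, nat_lit 10],
   [nat_lit 10, nat_lit 18, nat_lit 11],
   [nat_lit 12, nat_lit 18, nat_lit 13],
   [nat_lit 0, nat_lit 18, nat_lit 18, nat_lit 1],
   [nat_lit 1, nat_lit 18, nat_lit 0, nat_lit 19],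
   [nat_lit 15, nat_lit 13, nat_lit 14, nat_lit 12],
   [nat_lit 11, nat_lit 13, nat_lit 10, nat_lit 12],
   [nat_lit 19, nat_lit 19, nat_lit 19, nat_lit 19],
   [nat_lit 19, nat_lit 1, nat_lit 18, nat_lit 0],
   [nat_lit 19, nat_lit 15, nat_lit 11, nat_lit 14, nat_lit 10],
   [nat_lit 11, nat_lit 17, nat_lit 10, nat_lit 16, nat_lit 19],
   [nat_lit 8, nat_lit 10, nat_lit 15, nat_lit 10, nat_lit 17, nat_lit 9],
   [nat_lit 17, nat_lit 15, nat_lit 16, nat_lit 14],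
   [nat_lit 15, nat_lit 11, nat_lit 14, nat_lit 10, nat_lit 19],
   [nat_lit 6, nat_lit 18, nat_lit 1, nat_lit 1, nat_lit 6, nat_lit 18, nat_lit 6],
   [nat_lit 7, nat_lit 18, nat_lit 7, nat_lit 19, nat_lit 7, nat_lit 0, nat_lit 0],
   [nat_lit 19, nat_lit 11, nat_lit 17, nat_lit 10, nat_lit 16],
   [nat_lit 7, nat_lit 0, nat_lit 0, nat_lit 19, nat_lit 7, nat_lit 18, nat_lit 7]],
  [[nat_lit 13, nat_lit 11, nat_lit 12, nat_lit 10],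
   [nat_lit 13, nat_lit 15, nat_lit 12, nat_lit 14],
   [nat_lit 3, nat_lit 19, nat_lit 2],
   [nat_lit 2, nat_lit 19, nat_lit 3],
   [nat_lit 13, nat_lit 19, nat_lit 12],
   [nat_lit 15, nat_lit 19, nat_lit 14],
   [nat_lit 16, nat_lit 19, nat_lit 17],
   [nat_lit 10, nat_lit 19, nat_lit 11],
   [nat_lit 14, nat_lit 19, nat_lit 15],
   [nat_lit 11, nat_lit 19, nat_lit 10],
   [nat_lit 17, nat_lit 19, nat_lit 16],
   [nat_lit 12, nat_lit 19, nat_lit 13],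
   [nat_lit 15, nat_lit 17, nat_lit 14, nat_lit 16],
   [nat_lit 18, nat_lit 18, nat_lit 18, nat_lit 18],
   [nat_lit 1, nat_lit 19, nat_lit 0, nat_lit 18],
   [nat_lit 18, nat_lit 1, nat_lit 19, nat_lit 0],
   [nat_lit 0, nat_lit 19, nat_lit 19, nat_lit 1],
   [nat_lit 18, nat_lit 17, nat_lit 11, nat_lit 16, nat_lit 10],
   [nat_lit 8, nat_lit 16, nat_lit 11, nat_lit 14, nat_lit 11, nat_lit 9],
   [nat_lit 18, nat_lit 11, nat_lit 15, nat_lit 10, nat_lit 14],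
   [nat_lit 17, nat_lit 11, nat_lit 16, nat_lit 10, nat_lit 18],
   [nat_lit 11, nat_lit 15, nat_lit 10, nat_lit 14, nat_lit 18],
   [nat_lit 7, nat_lit 19, nat_lit 7, nat_lit 0, nat_lit 0, nat_lit 19, nat_lit 7],
   [nat_lit 6, nat_lit 19, nat_lit 6, nat_lit 18, nat_lit 1, nat_lit 1, nat_lit 6],
   [nat_lit 1, nat_lit 1, nat_lit 6, nat_lit 18, nat_lit 6, nat_lit 19, nat_lit 6]],
  []]

def HT : List (List (Nat × Nat × Nat)) := [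
  [(1, 26, 1), (0, 26, 2), (1, 41, 3), (0, 41, 1), (0, 44, 1), (1, 44, 3), (0, 23, 2), (0, 42, 1), (1, 42, 5), (0, 43, 1), (1, 43, 7), (2, 5, 0), (1, 61, 5), (0, 23, 1), (1, 23, 2), (1, 23, 3), (0, 61, 4), (0, 59, 4), (0, 61, 0), (0, 59, 5), (0, 59, 3), (1, 20, 0), (0, 54, 10), (2, 6, 1), (1, 22, 0), (2, 7, 2), (0, 59, 0), (1, 51, 7), (0, 56, 12), (0, 63, 7), (0, 61, 5), (1, 54, 11), (1, 54, 12), (0, 56, 0), (0, 24, 1), (1, 57, 5), (1, 57, 3), (1, 56, 9), (1, 56, 7), (0, 51, 8), (1, 57, 1), (0, 58, 0)],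
  [(1, 26, 3), (0, 26, 0), (0, 44, 3), (1, 44, 0), (0, 41, 3), (1, 41, 0), (1, 23, 5), (0, 23, 4), (0, 61, 2), (1, 23, 0), (0, 23, 5), (0, 42, 3), (1, 42, 0), (0, 43, 3), (1, 61, 1), (1, 61, 2), (1, 61, 3), (1, 59, 3), (0, 20, 0), (1, 59, 2), (1, 59, 1), (0, 22, 1), (1, 43, 0), (1, 59, 4), (0, 51, 4), (0, 24, 3), (1, 63, 1), (0, 54, 2), (0, 54, 3), (0, 56, 2), (1, 58, 13), (0, 57, 8), (0, 56, 7), (1, 63, 2)],
  [(0, 60, 1), (1, 28, 3), (0, 28, 0), (0, 27, 2), (1, 27, 1), (1, 47, 2), (0, 47, 1), (1, 60, 2), (1, 21, 0), (0, 50, 5), (0, 52, 6), (1, 55, 6), (0, 52, 0), (0, 50, 0), (0, 45, 1), (1, 45, 6), (1, 46, 6), (0, 46, 1), (1, 23, 1), (0, 23, 3), (0, 51, 0), (1, 22, 1), (1, 48, 1), (1, 24, 1), (1, 56, 10), (0, 54, 12), (0, 58, 16), (0, 58, 15)],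
  [(1, 60, 0), (1, 27, 3), (0, 27, 0), (0, 28, 2), (1, 28, 1), (0, 47, 3), (1, 47, 0), (0, 60, 3), (0, 21, 0), (0, 55, 2), (1, 52, 2), (1, 52, 1), (1, 50, 3), (1, 50, 1), (0, 45, 3), (1, 45, 0), (0, 46, 3), (0, 22, 0), (1, 23, 4), (1, 46, 0), (0, 23, 0), (0, 24, 0), (1, 24, 3), (0, 56, 3), (1, 54, 2), (0, 54, 9), (1, 58, 15), (1, 51, 1), (1, 58, 3)],
  [(0, 25, 0), (0, 26, 3), (0, 27, 3), (0, 28, 3)],
  [(1, 25, 1), (1, 26, 2), (1, 28, 2), (1, 27, 2)],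
  [(1, 63, 6), (1, 59, 5), (1, 60, 1), (0, 60, 2), (0, 61, 1), (1, 59, 0), (1, 61, 4), (1, 63, 4), (1, 62, 0), (1, 63, 0), (1, 58, 0)],
  [(0, 59, 1), (0, 59, 2), (0, 60, 0), (1, 60, 3), (1, 61, 0), (0, 63, 3), (0, 63, 5), (1, 48, 17), (0, 61, 3), (0, 63, 1), (0, 58, 1)],
  [(1, 49, 0), (1, 50, 5), (0, 52, 1), (0, 55, 1), (0, 53, 1), (1, 52, 5), (0, 50, 1), (1, 53, 5), (1, 55, 5), (0, 51, 1), (1, 57, 10), (1, 51, 8), (1, 54, 10), (1, 54, 0), (1, 57, 0), (1, 57, 8), (1, 56, 0), (1, 56, 6), (0, 58, 2)],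
  [(0, 53, 3), (0, 55, 3), (0, 49, 0), (0, 52, 3), (1, 50, 0), (1, 53, 0), (1, 55, 0), (0, 50, 3), (1, 52, 0), (1, 51, 0), (0, 51, 3), (0, 54, 1), (0, 57, 5), (0, 57, 3), (0, 54, 4), (0, 56, 1), (0, 57, 1), (0, 56, 8), (1, 58, 16)],
  [(1, 25, 0), (0, 32, 1), (1, 32, 2), (1, 41, 2), (0, 29, 3), (1, 41, 1), (1, 29, 1), (1, 30, 0), (1, 36, 4), (1, 37, 4), (0, 36, 1), (0, 37, 1), (1, 50, 4), (1, 50, 6), (0, 53, 0), (0, 55, 0), (0, 53, 5), (1, 45, 4), (0, 46, 7), (0, 46, 0), (2, 0, 0), (1, 51, 5), (0, 43, 0), (0, 42, 5), (0, 43, 5)],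
  [(0, 25, 1), (1, 32, 0), (0, 32, 3), (0, 29, 0), (0, 41, 0), (1, 29, 3), (0, 41, 4), (0, 30, 0), (0, 37, 3), (1, 37, 0), (0, 36, 3), (1, 36, 0), (1, 53, 3), (0, 50, 2), (1, 53, 1), (1, 55, 1), (0, 50, 4), (0, 45, 5), (1, 46, 2), (1, 42, 3), (1, 43, 1), (1, 46, 1), (1, 56, 3), (0, 51, 6), (1, 43, 5)],
  [(0, 39, 1), (1, 39, 2), (0, 33, 1), (1, 33, 2), (1, 26, 0), (1, 29, 2), (0, 38, 1), (0, 29, 2), (1, 38, 3), (1, 41, 4), (1, 45, 7), (2, 1, 0), (0, 45, 0), (1, 57, 11), (1, 43, 2), (0, 57, 4), (1, 57, 7)],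
  [(1, 39, 0), (0, 39, 3), (1, 33, 0), (0, 33, 3), (0, 26, 1), (1, 29, 4), (0, 29, 4), (1, 38, 0), (0, 38, 3), (0, 41, 2), (1, 45, 1), (0, 45, 2), (1, 57, 9), (0, 43, 8), (1, 51, 4), (0, 57, 2)],
  [(0, 34, 1), (1, 34, 2), (1, 27, 0), (1, 38, 2), (0, 38, 2), (0, 40, 1), (1, 40, 3), (0, 36, 2), (1, 36, 3), (0, 50, 6), (1, 53, 2), (1, 55, 2), (1, 52, 3), (1, 42, 6), (0, 45, 7), (1, 46, 7), (1, 46, 5), (2, 2, 0), (1, 42, 1), (1, 42, 2), (1, 51, 9), (1, 46, 4), (1, 43, 3), (1, 57, 4)],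
  [(1, 34, 0), (0, 34, 3), (0, 27, 1), (1, 40, 0), (0, 40, 3), (1, 38, 4), (0, 36, 4), (0, 38, 4), (1, 36, 5), (0, 52, 5), (0, 42, 6), (0, 53, 6), (0, 42, 2), (1, 50, 2), (0, 55, 6), (0, 42, 0), (1, 45, 2), (0, 46, 4), (0, 46, 2), (0, 43, 7), (0, 51, 2), (0, 46, 5), (0, 57, 9)],
  [(0, 35, 1), (1, 35, 2), (1, 28, 0), (0, 39, 2), (1, 40, 2), (0, 40, 2), (1, 39, 1), (1, 37, 3), (0, 37, 2), (1, 52, 6), (0, 42, 4), (1, 53, 4), (1, 55, 4), (1, 55, 3), (0, 52, 4), (1, 45, 5), (0, 46, 6), (1, 43, 8), (1, 51, 6), (2, 3, 0), (0, 43, 4), (1, 45, 3), (1, 56, 5), (0, 43, 6), (0, 57, 7)],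
  [(1, 35, 0), (0, 35, 3), (0, 28, 1), (0, 39, 0), (1, 39, 3), (0, 40, 4), (1, 40, 4), (0, 37, 4), (1, 37, 5), (0, 55, 5), (0, 52, 2), (1, 42, 4), (1, 52, 4), (0, 55, 4), (0, 53, 4), (0, 45, 4), (0, 45, 6), (0, 43, 2), (1, 43, 6), (1, 46, 3), (1, 43, 4), (0, 51, 5), (1, 57, 6)],
  [(1, 33, 1), (1, 34, 1), (1, 35, 1), (0, 35, 2), (1, 47, 3), (0, 47, 0), (0, 34, 2), (1, 32, 1), (0, 32, 2), (0, 33, 2), (1, 44, 4), (0, 44, 0), (1, 38, 1), (1, 29, 0), (1, 31, 0), (0, 44, 4), (1, 36, 1), (0, 37, 0), (1, 53, 6), (1, 40, 1), (1, 36, 2), (0, 63, 4), (1, 63, 3), (0, 37, 5), (1, 63, 7)],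
  [(0, 29, 1), (0, 38, 0), (1, 47, 1), (0, 47, 2), (0, 33, 0), (0, 34, 0), (1, 35, 3), (1, 32, 3), (1, 34, 3), (0, 32, 0), (0, 35, 0), (1, 33, 3), (0, 40, 0), (0, 31, 0), (1, 44, 2), (1, 44, 1), (0, 44, 2), (1, 37, 1), (0, 53, 2), (0, 36, 5), (1, 37, 2), (0, 36, 0), (1, 63, 5), (0, 63, 2), (0, 63, 6)],
  []]

def W : List (List Nat) := [[10],
   [12],
   [14],
   [16],
   [18],
   [0],
   [2, 0, 3],
   [2, 2, 0, 3, 3]]

noncomputable def P : Par := ⟨T, (nat_lit 4), (nat_lit 15), (nat_lit 572), (nat_lit 26), (nat_lit 67108863), (nat_lit 15), (nat_lit 32767), (nat_lit 20), (nat_lit 19546), (nat_lit 19552), (nat_lit 0x2b494e1173d8d52d0931c8510c01), RT⟩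


end Cfsg.Agent.Comp.G25K.Top
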